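import Cfsg.Agent.H471.TC.ThirtyFive
import Cfsg.Agent.H471.TC.Triv
import Cfsg.Agent.H909.PwM.Chart
import Cfsg.Agent.H812.CoFiveData
import Cfsg.Agent.H606.OreM.Vals

/-!
# The Monster, S4173, S2464, S2452: T1 for the elements of order 35 (helper471)

* `co_35` : `x₀ ∈ Co₁`, `|x₀| = 35`, `x₀ ^ 7` without fixed points on `Λ/2Λ`;
* `exists_35` : `x ∈ C(z)`, `|x| = 35`, `pi x = x₀`, `|C_M(x)| ≤ 70`;
* `prd_35` : `|C(x)|, |C(y)| ≤ 70`, `|C(g)| ≤ 8141760`: `g` is a product of conjugates of `x` and `y`;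
* `prd_mix` : the same with `|C(x)| ≤ 552`, `|C(y)| ≤ 70`, `|C(g)| ≤ 1019500`;
* `three` : `|C(x)| ≤ 552`: every `g` is a product of three conjugates of `x`.
-/

set_option autoImplicit false
set_option maxRecDepth 100000

namespace Cfsg.Agent.H471.TC

open Cfsg
open Cfsg.Agent.MonsterX Cfsg.Agent.MonsterX.InstData Cfsg.Agent.MonsterX.MainPack Cfsg.Agent.MonsterU
open Cfsg.Agent.MonsterP Cfsg.Agent.MonsterN Cfsg.Agent.LThreeMB
open Cfsg.Agent.MonsterX.MainBasic Cfsg.Agent.MonsterX.MainSimple Cfsg.Agent.MonsterX.Model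
open Cfsg.Agent.MonsterU.Lam2 Cfsg.Agent.MonsterU.TwoCls
open Cfsg.Agent.BpSpor.MBigModel
open Cfsg.Spor (Co1)
open Cfsg.Agent.H65.Ore (Prd)
open Subgroup (centralizer zpowers mem_centralizer_singleton_iff)

/-- elements of order 35 of `Co₁` -/
theorem co_35 : ∃ s t : Co1, orderOf s = 5 ∧ orderOf t = 7 ∧ t * s = s * t ∧ fr s = 1 ∧
    orderOf (s ^ 3 * t) = 35 ∧ (s ^ 3 * t) ^ 7 = s ∧ ∀ v : L2, (s ^ 3 * t) • v = v → v = 0 := by
  have h7 : Fact (Nat.Prime 7) := ⟨by norm_num⟩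
  have hs : orderOf H812.CoFiveData.p1 = 5 := H812.CoFiveData.order_p1
  have hfr := H812.CoFiveData.fr_p1
  obtain ⟨s, rfl⟩ : ∃ s, s = H812.CoFiveData.p1 := ⟨_, rfl⟩
  obtain ⟨e⟩ := MFive.JTwo.isoJ2 hs hfr
  have hfin : Finite Spor.J2 := Nat.finite_of_card_ne_zero (by rw [H71.Tor.card_j2]; norm_num)
  obtain ⟨b, hb⟩ := exists_prime_orderOf_dvd_card' (G := Spor.J2) 7 (by rw [H71.Tor.card_j2]; norm_num)
  obtain ⟨g, hg, hgu⟩ := exists_mk (e.symm b)
  have hu7 : (e.symm b) ^ 7 = 1 := by rw [← map_pow, ← hb, pow_orderOf_eq_one, map_one]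
  have hmk : ∀ k : ℕ, ∀ hk : g ^ k * H812.CoFiveData.p1 = H812.CoFiveData.p1 * g ^ k,
      mk H812.CoFiveData.p1 hk = (e.symm b) ^ k := by
    intro k hk
    rw [← hgu]
    show QuotientGroup.mk' _ _ = (QuotientGroup.mk' _ _) ^ k
    rw [← map_pow]
    rfl
  have hgc : Commute g H812.CoFiveData.p1 := hg
  have hs5 : H812.CoFiveData.p1 ^ 5 = 1 := by rw [← hs, pow_orderOf_eq_one]
  -- `g ^ 35 = 1`
  have h35 : g ^ 35 = 1 := by
    obtain ⟨i, hi⟩ := (mk_eq_one (hgc.pow_left 7).eq).1 (by rw [hmk, hu7])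
    rw [show (35 : ℕ) = 7 * 5 by norm_num, pow_mul, ← hi, ← zpow_natCast, ← zpow_mul, mul_comm, zpow_mul,
      zpow_natCast, hs5, one_zpow]
  have ht : orderOf (g ^ 5) = 7 := by
    refine orderOf_eq_prime (by rw [← pow_mul]; exact h35) ?_
    intro h1
    have h2 := hmk 5 (hgc.pow_left 5).eq
    have h3 : mk H812.CoFiveData.p1 (hgc.pow_left 5).eq = 1 := (mk_eq_one _).2 ⟨0, by rw [zpow_zero, h1]⟩
    rw [h3] at h2
    have h4 : (e.symm b) ^ 1 = 1 := by
      have h5 := (pow_gcd_eq_one (m := 5) (n := 7)).2 ⟨h2.symm, hu7⟩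
      simpa using h5
    rw [pow_one] at h4
    have h6 : b = 1 := by
      have := congrArg e h4
      simpa using this
    rw [h6, orderOf_one] at hb
    norm_num at hb
  have hts : Commute (g ^ 5) H812.CoFiveData.p1 := hgc.pow_left 5
  have h3 : orderOf (H812.CoFiveData.p1 ^ 3) = 5 := by
    rw [orderOf_pow' _ (by norm_num), hs]; norm_num
  have hpow : (H812.CoFiveData.p1 ^ 3 * g ^ 5) ^ 7 = H812.CoFiveData.p1 := by
    rw [(hts.symm.pow_left 3).mul_pow]
    have h7' : (g ^ 5) ^ 7 = 1 := by rw [← pow_mul]; exact h35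
    rw [h7', mul_one, ← pow_mul, show 3 * 7 = 5 * 4 + 1 by norm_num, pow_add, pow_mul, hs5, one_pow, one_mul, pow_one]
  refine ⟨H812.CoFiveData.p1, g ^ 5, hs, ht, hts.eq, hfr, ?_, hpow, ?_⟩
  · rw [(hts.symm.pow_left 3).orderOf_mul_eq_mul_orderOf_of_coprime (by rw [h3, ht]; norm_num), h3, ht]
  · intro v hv
    refine KPair.eq_zero_of_fr hfr ?_
    have h1 : ∀ k : ℕ, (H812.CoFiveData.p1 ^ 3 * g ^ 5) ^ k • v = v := by
      intro k
      induction k with
      | zero => rw [pow_zero, one_smul]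
      | succ k ih => rw [pow_succ, mul_smul, hv, ih]
    rw [← hpow]
    exact h1 7

/-- a lift of order 35 -/
theorem exists_lift_35 {x₀ : Co1} (hx₀ : orderOf x₀ = 35) :
    ∃ x : centralizer ({zz} : Set MG), orderOf x = 35 ∧ pi x = x₀ := by
  obtain ⟨a, ha, hao⟩ := H909.PwM.exists_pre chart (n := 2) (by norm_num) (p := x₀) (by rw [hx₀]; norm_num)
  refine ⟨a, ?_, ha⟩
  have h1 : a ^ 35 = 1 := by
    have h2 : pi (a ^ 35) = 1 := by rw [map_pow, ha, ← hx₀, pow_orderOf_eq_one]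
    have h3 : ((a ^ 35 : centralizer ({zz} : Set MG)) : MG) ∈ KDone.K.ι.range := (chart.pi_eq_one _).1 h2
    have h4 := MFive.pow_four chart h3
    have h5 : a ^ (35 * 4) = 1 := Subtype.ext (by
      rw [pow_mul]
      exact h4)
    have h6 := orderOf_dvd_of_pow_eq_one h5
    have h7 : orderOf a ∣ 35 := Nat.Coprime.dvd_of_dvd_mul_right (Nat.Coprime.pow_right 2 hao) h6
    exact orderOf_dvd_iff_pow_eq_one.1 h7
  refine Nat.dvd_antisymm (orderOf_dvd_of_pow_eq_one h1) ?_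
  rw [← hx₀, ← ha]
  exact orderOf_map_dvd pi a

/-- **The elements of order 35.** -/
theorem exists_35 : ∃ (x : centralizer ({zz} : Set MG)) (x₀ : Co1), orderOf x = 35 ∧ orderOf x₀ = 35 ∧ pi x = x₀ ∧
    fr (x₀ ^ 7) = 1 ∧ (∀ v : L2, x₀ • v = v → v = 0) ∧ Nat.card ↥(centralizer ({(x : MG)} : Set MG)) ≤ 70 := by
  obtain ⟨s, t, hs, ht, hst, hfr, ho, hp, hfix⟩ := co_35
  obtain ⟨x, hx, hpx⟩ := exists_lift_35 ho
  have hf7 : fr (pi (x ^ 7)) = 1 := by rw [map_pow, hpx, hp]; exact hfr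
  exact ⟨x, _, hx, ho, hpx, by rw [hp]; exact hfr, hfix, card_le hx hf7⟩

/-- the degrees -/
theorem min_norm (χ : IrrCharacter MG) (hχ : (χ : MG → ℂ) ≠ 1) : ((196883 : ℕ) : ℝ) ≤ ‖(χ : MG → ℂ) 1‖ := by
  have h := H606.OreM.min_deg χ hχ
  obtain ⟨n, hn0, hn⟩ := Cfsg.Agent.Characters.Core.isIrr_apply_one χ.2
  unfold charDegree at h
  rw [hn] at h ⊢
  rw [Complex.norm_natCast]
  simp only [Complex.natCast_re, Nat.floor_natCast] at h
  exact_mod_cast h

/-- **T1, two classes, general form.** -/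
theorem prd_of {x y g : MG} (h : (Nat.card (centralizer ({x} : Set MG)) - 1) *
    (Nat.card (centralizer ({y} : Set MG)) - 1) * (Nat.card (centralizer ({g} : Set MG)) - 1) < 196883 ^ 2) :
    Prd x y g := by
  have := finite
  have : Finite (IrrCharacter MG) := Cfsg.Agent.Characters.Core.finite_irr
  have : Fintype (IrrCharacter MG) := Fintype.ofFinite _
  exact prd_of_min (d := 196883) (by norm_num) min_norm h

/-- **T1 for elements of order 35.** -/
theorem prd_35 {x y g : MG} (hx : Nat.card (centralizer ({x} : Set MG)) ≤ 70)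
    (hy : Nat.card (centralizer ({y} : Set MG)) ≤ 70) (hg : Nat.card (centralizer ({g} : Set MG)) ≤ 8141760) :
    Prd x y g := by
  apply prd_of
  calc _ ≤ (70 - 1) * (70 - 1) * (8141760 - 1) := by gcongr
    _ < _ := by norm_num

/-- **T1, mixed form.** -/
theorem prd_mix {x y g : MG} (hx : Nat.card (centralizer ({x} : Set MG)) ≤ 552)
    (hy : Nat.card (centralizer ({y} : Set MG)) ≤ 70) (hg : Nat.card (centralizer ({g} : Set MG)) ≤ 1019500) :
    Prd x y g := by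
  apply prd_of
  calc _ ≤ (552 - 1) * (70 - 1) * (1019500 - 1) := by gcongr
    _ < _ := by norm_num

/-- **Products of three classes.** -/
theorem three {x : MG} (hx : Nat.card (centralizer ({x} : Set MG)) ≤ 3385) (g : MG) :
    ∃ u v t : MG, g = (u * x * u⁻¹) * (v * x * v⁻¹) * (t * x * t⁻¹) := by
  have := finite
  have : Finite (IrrCharacter MG) := Cfsg.Agent.Characters.Core.finite_irr
  have : Fintype (IrrCharacter MG) := Fintype.ofFinite _
  refine three_of_min (d := 196883) (by norm_num) min_norm ?_ g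
  calc _ ≤ (3385 - 1) * (3385 - 1) * (3385 - 1) := by gcongr
    _ < _ := by norm_num

end Cfsg.Agent.H471.TC
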