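import Cfsg.Agent.H58.Mon.FiveB
import Cfsg.Agent.H71.Tor.JTwo
import Cfsg.Agent.H6.ORE.ChartOre

/-!
# The Monster: elements of order 35 of `C(z) = 2^(1+24).Co1` without fixed points on `Λ/2Λ` (helper471)

* `cent_seven` : in the situation `Rad 5 z x N f` with `|N| = 5 ^ 7`, the centralizer of an element of order 7 of `C(z)` is
  contained in `C(z)`;
* `card_le` : `x ∈ C(z)`, `|x| = 35`, `x ^ 7` without fixed points on `Λ/2Λ`: `|C_M(x)| ≤ 70`.
-/

set_option autoImplicit false
set_option maxRecDepth 100000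

namespace Cfsg.Agent.H471.TC

open Cfsg
open Subgroup (centralizer zpowers mem_centralizer_singleton_iff mem_centralizer_iff mem_zpowers mem_zpowers_iff)

section abs

open Cfsg.Agent.BpSpor.M5
open Subgroup

universe u v

variable {D : Type u} [Group D] [Finite D]

/-- an element of order 7 acting on a normal subgroup of order `5 ^ 7`, not centralizing it but centralizing `x ≠ 1` -/
theorem card_fix {S : Subgroup D} (hS : S.Normal) (hcard : Nat.card ↥S = 5 ^ 7) {w x : D} (hw : orderOf w = 7)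
    (hx : x ∈ S) (hx1 : x ≠ 1) (hxw : w * x = x * w) (hne : ∃ s ∈ S, w * s ≠ s * w) :
    Nat.card ↥(S ⊓ centralizer ({w} : Set D) : Subgroup D) = 5 := by
  have h5 : Fact (Nat.Prime 5) := ⟨Nat.prime_five⟩
  have h7 : Fact (Nat.Prime 7) := ⟨by norm_num⟩
  let act : MulAction ↥(zpowers w) ↥S :=
    { smul := fun g s => ⟨(g : D) * s * (g : D)⁻¹, hS.conj_mem s s.2 g⟩
      one_smul := fun s => Subtype.ext (by show (1 : D) * s * (1 : D)⁻¹ = s; group)
      mul_smul := fun g h s => Subtype.ext (by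
        show ((g : D) * h) * s * ((g : D) * h)⁻¹ = (g : D) * ((h : D) * s * (h : D)⁻¹) * (g : D)⁻¹
        group) }
  have hwp : IsPGroup 7 ↥(zpowers w) := IsPGroup.of_card (n := 1) (by rw [Nat.card_zpowers, hw, pow_one])
  have h1 := hwp.card_modEq_card_fixedPoints (α := ↥S)
  have h2 : Nat.card (MulAction.fixedPoints ↥(zpowers w) ↥S) = Nat.card ↥(S ⊓ centralizer ({w} : Set D) : Subgroup D) := by
    refine Nat.card_congr
      { toFun := fun s => ⟨(s.1 : D), s.1.2, ?_⟩
        invFun := fun s => ⟨⟨(s : D), s.2.1⟩, ?_⟩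
        left_inv := fun s => rfl
        right_inv := fun s => rfl }
    · have h3 := s.2 ⟨w, mem_zpowers w⟩
      have h4 : w * (s.1 : D) * w⁻¹ = s.1 := congrArg Subtype.val h3
      exact mem_centralizer_singleton_iff.2 (mul_inv_eq_iff_eq_mul.1 h4).symm
    · intro g
      apply Subtype.ext
      show (g : D) * s * (g : D)⁻¹ = s
      obtain ⟨i, hi⟩ := mem_zpowers_iff.1 g.2
      have h3 : Commute w (s : D) := (mem_centralizer_singleton_iff.1 s.2.2).symm
      rw [← hi, mul_inv_eq_iff_eq_mul]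
      exact (h3.zpow_left i)
  rw [h2] at h1
  have hSp : IsPGroup 5 ↥S := IsPGroup.of_card hcard
  obtain ⟨c, hc⟩ := IsPGroup.iff_card.mp (hSp.to_le (inf_le_left : S ⊓ centralizer ({w} : Set D) ≤ S))
  rw [hcard, hc] at h1
  have hlt : S ⊓ centralizer ({w} : Set D) < S := by
    refine lt_of_le_of_ne inf_le_left ?_
    intro h
    obtain ⟨s, hs, hsw⟩ := hne
    rw [← h] at hs
    exact hsw (mem_centralizer_singleton_iff.1 hs.2).symm
  have hcm : c < 7 := by
    have h3 : Nat.card ↥(S ⊓ centralizer ({w} : Set D) : Subgroup D) < Nat.card ↥S := by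
      refine lt_of_le_of_ne (card_le_of_le hlt.le) ?_
      intro h
      exact hlt.ne (Subgroup.eq_of_le_of_card_ge hlt.le h.ge)
    rw [hcard, hc] at h3
    exact (Nat.pow_lt_pow_iff_right (by norm_num)).1 h3
  have hc1 : 1 ≤ c := by
    by_contra h3
    have h4 : c = 0 := by omega
    rw [h4, pow_zero, Subgroup.card_eq_one] at hc
    have h5 : x ∈ S ⊓ centralizer ({w} : Set D) := ⟨hx, mem_centralizer_singleton_iff.2 hxw.symm⟩
    rw [hc, mem_bot] at h5
    exact hx1 h5
  rw [hc]
  interval_cases c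
  · rfl
  all_goals exact absurd h1 (by decide)

variable {z x : D} {N : Subgroup D} {A : Type v} [Group A] {f : ↥(centralizer ({z} : Set D)) →* A}

/-- **The centralizer of an element of order 7.** -/
theorem cent_seven [hp : Fact (Nat.Prime 5)] [hA : IsSimpleGroup A] (hAc : ¬ Group.IsSolvable A)
    (h : Rad 5 z x N f) {k : ↥(centralizer ({z} : Set D))} (hk : (k : D) * k = z) {a : ℕ}
    (hD : 5 ^ (a + 2) ∣ Nat.card D) (hAa : ¬ 5 ^ (a + 1) ∣ Nat.card A) (hN7 : Nat.card ↥N = 5 ^ 7)
    {w : D} (hw : orderOf w = 7) (hwz : w * z = z * w) {g : D} (hg : g * w = w * g) : g * z = z * g := by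
  obtain ⟨S, hS, hSp, hSN, hxS, hsol⟩ := h.exists_radical hAc (by norm_num) hk hD hAa
  have hx1 : x ≠ 1 := by
    intro h1
    have h2 := h.ox
    rw [h1, orderOf_one] at h2
    norm_num at h2
  have hx5 : x ^ 5 = 1 := by rw [← h.ox, pow_orderOf_eq_one]
  have hw7 : w ^ 7 = 1 := by rw [← hw, pow_orderOf_eq_one]
  -- `w` does not centralize `N`
  have hne : ∃ s ∈ N, w * s ≠ s * w := by
    by_contra hcon
    push Not at hcon
    have hwC : w ∈ centralizer (S : Set D) := mem_centralizer_iff.2 fun s hs => (hcon s (hSN hs)).symm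
    have hCn : (centralizer (S : Set D)).Normal := inferInstance
    have h1 : (((centralizer (S : Set D)).subgroupOf (centralizer ({z} : Set D))).map f).Normal :=
      (inferInstance : ((centralizer (S : Set D)).subgroupOf (centralizer ({z} : Set D))).Normal).map f h.surj
    have hwz' : w ∈ centralizer ({z} : Set D) := mem_centralizer_singleton_iff.2 hwz
    have h2 : f ⟨w, hwz'⟩ ∈ ((centralizer (S : Set D)).subgroupOf (centralizer ({z} : Set D))).map f :=
      mem_map_of_mem f (mem_subgroupOf.2 hwC)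
    rcases h1.eq_bot_or_eq_top with h3 | h3
    · rw [h3, mem_bot] at h2
      obtain ⟨i, hi⟩ := h.ker _ h2
      have hi' : w = x ^ i ∨ w = x ^ i * z := hi
      have h10 : w ^ 10 = 1 := by
        rcases hi' with hi | hi
        · rw [hi, ← zpow_natCast, ← zpow_mul, mul_comm, zpow_mul, zpow_natCast, show (10 : ℕ) = 5 * 2 by norm_num,
            pow_mul, hx5, one_pow, one_zpow]
        · have hc : Commute (x ^ i) z := (h.xzc i z).symm
          have hz10 : z ^ 10 = 1 := by
            rw [show (10 : ℕ) = 2 * 5 by norm_num, pow_mul, pow_two, h.zz, one_pow]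
          rw [hi, hc.mul_pow, hz10, mul_one, ← zpow_natCast, ← zpow_mul, mul_comm, zpow_mul, zpow_natCast,
            show (10 : ℕ) = 5 * 2 by norm_num, pow_mul, hx5, one_pow, one_zpow]
      have h11 := orderOf_dvd_of_pow_eq_one h10
      rw [hw] at h11
      norm_num at h11
    · apply hAc
      have h4 : Group.IsSolvable ↥((centralizer (S : Set D)).subgroupOf (centralizer ({z} : Set D))) :=
        Group.isSolvable_of_isSolvable_injective
          (f := (((centralizer ({z} : Set D)).subtype).subgroupComap (centralizer (S : Set D)))) (by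
            intro a b hab
            apply Subtype.ext
            apply Subtype.ext
            have h6 := congrArg (fun t : ↥(centralizer (S : Set D)) => (t : D)) hab
            exact h6)
      have h5 : Group.IsSolvable ↥(((centralizer (S : Set D)).subgroupOf (centralizer ({z} : Set D))).map f) :=
        Group.isSolvable_of_surjective (f.subgroupMap_surjective _)
      rw [h3] at h5
      exact Group.isSolvable_of_surjective (f := (topEquiv (G := A)).toMonoidHom) topEquiv.surjective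
  have hfix := card_fix h.nN hN7 hw h.xN hx1 (h.xc w) hne
  -- `C_N(w) = ⟨x⟩`
  have hle : zpowers x ≤ N ⊓ centralizer ({w} : Set D) := by
    rw [zpowers_le]
    exact ⟨h.xN, mem_centralizer_singleton_iff.2 (h.xc w).symm⟩
  have heq : zpowers x = N ⊓ centralizer ({w} : Set D) :=
    Subgroup.eq_of_le_of_card_ge hle (by rw [hfix, Nat.card_zpowers, h.ox])
  obtain ⟨n, hn, c, hc, rfl⟩ := h.sup g
  -- `w n w⁻¹ = n x ^ i`
  have ht : n⁻¹ * (w * n * w⁻¹) = c * (w * c * w⁻¹)⁻¹ := by
    have h1 : w * (n * c) * w⁻¹ = n * c := by rw [← hg]; group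
    have h2 : (w * n * w⁻¹) * (w * c * w⁻¹) = n * c := by rw [← h1]; group
    have h3 : w * n * w⁻¹ = n * c * (w * c * w⁻¹)⁻¹ := eq_mul_inv_of_mul_eq h2
    rw [h3]; group
  have hwzc : Commute w z := hwz
  have hcz : Commute c z := hc
  have htz : Commute (c * (w * c * w⁻¹)⁻¹) z :=
    hcz.mul_left ((hwzc.mul_left hcz).mul_left hwzc.inv_left).inv_left
  have htN : n⁻¹ * (w * n * w⁻¹) ∈ N := N.mul_mem (N.inv_mem hn) (h.nN.conj_mem n hn w)
  obtain ⟨i, hi⟩ := mem_zpowers_iff.1 (h.cN _ htN (by rw [ht]; exact htz.eq))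
  have hwn : w * n * w⁻¹ = n * x ^ i := by rw [hi]; group
  have hpow : ∀ k : ℕ, w ^ k * n * (w ^ k)⁻¹ = n * (x ^ i) ^ k := by
    intro k
    induction k with
    | zero => simp
    | succ k ih =>
      calc w ^ (k + 1) * n * (w ^ (k + 1))⁻¹ = w * (w ^ k * n * (w ^ k)⁻¹) * w⁻¹ := by
            rw [pow_succ']; group
        _ = w * (n * (x ^ i) ^ k) * w⁻¹ := by rw [ih]
        _ = (w * n * w⁻¹) * (w * (x ^ i) ^ k * w⁻¹) := by group
        _ = (n * x ^ i) * (x ^ i) ^ k := by
            rw [hwn]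
            congr 1
            rw [← zpow_natCast, ← zpow_mul, h.xzc, mul_inv_cancel_right]
        _ = n * (x ^ i) ^ (k + 1) := by rw [mul_assoc, ← pow_succ']
  have h7 := hpow 7
  rw [hw7, one_mul, inv_one, mul_one] at h7
  have h71 : (x ^ i) ^ 7 = 1 := (mul_eq_left.1 h7.symm)
  have h51 : (x ^ i) ^ 5 = 1 := by
    rw [← zpow_natCast, ← zpow_mul, mul_comm, zpow_mul, zpow_natCast, hx5, one_zpow]
  have hi1 : x ^ i = 1 := by
    have := (pow_gcd_eq_one (m := 7) (n := 5)).2 ⟨h71, h51⟩
    simpa using this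
  rw [hi1, mul_one, mul_inv_eq_iff_eq_mul] at hwn
  have hnw : n ∈ N ⊓ centralizer ({w} : Set D) := ⟨hn, mem_centralizer_singleton_iff.2 hwn.symm⟩
  rw [← heq] at hnw
  obtain ⟨j, hj⟩ := mem_zpowers_iff.1 hnw
  rw [← hj, mul_assoc, hc, ← mul_assoc, ← h.xzc, mul_assoc]

/-- counting through a homomorphism -/
theorem card_le_mul {H K : Type*} [Group H] [Group K] [Finite H] (φ : H →* K) {a b : ℕ} (ha : Nat.card φ.ker ≤ a)
    (hb : Nat.card φ.range ≤ b) : Nat.card H ≤ a * b := by
  rw [Subgroup.card_eq_card_quotient_mul_card_subgroup φ.ker,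
    Nat.card_congr (QuotientGroup.quotientKerEquivRange φ).toEquiv, mul_comm]
  exact Nat.mul_le_mul ha hb

end abs

section coOne

open Cfsg.Spor (Co1)
open Cfsg.Agent.LThreeMB Cfsg.Agent.MonsterU

instance finite_co1 : Finite Co1 := H55.CoOneBd.finite_co1

/-- `C_{Co1}(s t)`, `|s| = 5` without fixed points, `|t| = 7` -/
theorem card_co {s t : Co1} (hs : orderOf s = 5) (hfr : fr s = 1) (ht : orderOf t = 7) (hst : t * s = s * t) :
    Nat.card ↥(centralizer ({s} : Set Co1) ⊓ centralizer ({t} : Set Co1) : Subgroup Co1) ≤ 5 * 7 := by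
  obtain ⟨e⟩ := MFive.JTwo.isoJ2 hs hfr
  have hfX : Finite (XX s) := inferInstance
  let φ : ↥(centralizer ({s} : Set Co1) ⊓ centralizer ({t} : Set Co1) : Subgroup Co1) →* XX s :=
    (QuotientGroup.mk' (Zx s)).comp (Subgroup.inclusion inf_le_left)
  have hφ : ∀ c, φ c = mk s (mem_centralizer_singleton_iff.1 c.2.1) := fun c => rfl
  let τ : XX s := mk s hst
  have hτ : orderOf τ = 7 := by
    have : Fact (Nat.Prime 7) := ⟨by norm_num⟩
    refine orderOf_eq_prime ?_ ?_
    · have h1 : τ ^ 7 = QuotientGroup.mk' (Zx s) (⟨t, mem_centralizer_singleton_iff.2 hst⟩ ^ 7) := rfl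
      have h2 : (⟨t, mem_centralizer_singleton_iff.2 hst⟩ : ↥(centralizer ({s} : Set Co1))) ^ 7 = 1 :=
        Subtype.ext (by
          show t ^ 7 = 1
          rw [← ht, pow_orderOf_eq_one])
      rw [h1, h2, map_one]
    · intro h1
      obtain ⟨i, hi⟩ := (mk_eq_one hst).1 h1
      have h2 : t ^ 5 = 1 := by
        rw [← hi, ← zpow_natCast, ← zpow_mul, mul_comm, zpow_mul, zpow_natCast, ← hs, pow_orderOf_eq_one, one_zpow]
      have h3 := orderOf_dvd_of_pow_eq_one h2
      rw [ht] at h3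
      norm_num at h3
  refine card_le_mul φ ?_ ?_
  · -- the kernel
    have h1 : φ.ker.map (Subgroup.subtype _) ≤ zpowers s := by
      rintro _ ⟨c, hc, rfl⟩
      obtain ⟨i, hi⟩ := (mk_eq_one (mem_centralizer_singleton_iff.1 c.2.1)).1 (MonoidHom.mem_ker.1 hc)
      exact ⟨i, hi⟩
    have h2 := Subgroup.card_le_of_le h1
    rw [Subgroup.card_map_of_injective (Subgroup.subtype_injective _), Nat.card_zpowers, hs] at h2
    exact h2
  · have h1 : (φ.range.map e.toMonoidHom) ≤ centralizer ({e τ} : Set Spor.J2) := by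
      rintro _ ⟨_, ⟨c, rfl⟩, rfl⟩
      refine mem_centralizer_singleton_iff.2 ?_
      show e (φ c) * e τ = e τ * e (φ c)
      rw [← map_mul, ← map_mul]
      congr 1
      rw [hφ]
      have hc := mem_centralizer_singleton_iff.1 c.2.2
      show QuotientGroup.mk' (Zx s) _ * QuotientGroup.mk' (Zx s) _ = QuotientGroup.mk' (Zx s) _ * QuotientGroup.mk' (Zx s) _
      rw [← map_mul, ← map_mul]
      congr 1
      exact Subtype.ext hc
    have h2 : Finite Spor.J2 := Nat.finite_of_card_ne_zero (by rw [H71.Tor.card_j2]; norm_num)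
    have h3 := Subgroup.card_le_of_le h1
    rw [Subgroup.card_map_of_injective e.injective,
      H71.Tor.card_cent_j2_seven (by rw [MulEquiv.orderOf_eq]; exact hτ)] at h3
    exact h3

end coOne

section monster

open Cfsg.Agent.MonsterX Cfsg.Agent.MonsterX.InstData Cfsg.Agent.MonsterX.MainPack Cfsg.Agent.MonsterU
open Cfsg.Agent.MonsterP Cfsg.Agent.MonsterN Cfsg.Agent.LThreeMB
open Cfsg.Agent.MonsterX.MainBasic Cfsg.Agent.MonsterX.MainSimple Cfsg.Agent.MonsterX.Model
open Cfsg.Agent.MonsterU.Lam2 Cfsg.Agent.MonsterU.TwoCls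
open Cfsg.Agent.BpSpor.MBigModel Cfsg.Agent.H199.NSmMon
open Cfsg.Agent.H498.Ab Cfsg.Agent.H199.AbTool Cfsg.Agent.H199.AbRad
open Cfsg.Spor (Co1)

/-- **The centralizer of `x` is contained in `C(z)`.** -/
theorem comm_z {y w : centralizer ({zz} : Set MG)} (hy : orderOf y = 5) (hfr : fr (pi y) = 1) (hw : orderOf w = 7)
    (hyw : (w : MG) * y = y * w) {g : MG} (hgy : g * (y : MG) = y * g) (hgw : g * (w : MG) = w * g) :
    g * zz = zz * g := by
  have := finite
  have hp : Fact (Nat.Prime 5) := ⟨Nat.prime_five⟩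
  have hj := CpAutBFive.Final.hJ (pi y) (MFive.orderOf_pi chart Nat.prime_five (by decide) hy) hfr
  obtain ⟨e⟩ := hj
  have hs : IsSimpleGroup (XX (pi y)) := (MulEquiv.isSimpleGroup_congr e).2 Cfsg.Agent.S1620.result.1
  have hc : Nat.card (XX (pi y)) = 604800 := by
    rw [Nat.card_congr e.toEquiv, Cfsg.Agent.J2Sylow.SporSylow.card_J2]
  have hns : ¬ Group.IsSolvable (XX (pi y)) := not_solvable hs hc (by norm_num) (by norm_num)
  obtain ⟨N, hN⟩ := BpSpor.M5.exists_rad chart (by norm_num) hy hfr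
    (fun d hd hc => MFive.isolated chart BpSpor.M5.trNe hy hfr d hd hc) hs (by rw [hc]; decide)
  obtain ⟨k, hk, hkk⟩ := PreUniq.MonRow.exists_kk Nat.prime_five (by decide) PreUniq.MonFiveRow.neg_five y hy hfr
  have hkk' : k * k = zz := hkk
  have hkz : k * zz = zz * k := by rw [← hkk', mul_assoc]
  obtain ⟨K, hK⟩ : ∃ K : ↥(centralizer ({zD y} : Set ↥(centralizer ({(y : MG)} : Set MG)))),
      (K : ↥(centralizer ({(y : MG)} : Set MG))) * K = zD y :=
    ⟨⟨⟨k, mem_centralizer_singleton_iff.2 hk⟩, mem_centralizer_singleton_iff.2 (Subtype.ext hkz)⟩, Subtype.ext hkk'⟩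
  obtain ⟨m, hm, hcm⟩ := hN.card_N_mul hns
  rw [hc] at hcm
  -- `5 ^ 7 ∣ |N|`
  have hD4 := BpSpor.M5.dvd_zero chart BpSpor.M5.trNe (CpAutBFive.Closed.coFive CpAutBFive.Final.hJ)
    CpAutBFive.Closed.hnEight BpSpor.M5.hasPair (CoFive.Ranks.wclassOf _) CoFive.Sylow.exists_four hy hfr
  obtain ⟨S, hS, hSp, hSN, hxS, hS7⟩ := H546.RadSeven.exists_radical_seven hns hN hK (a := 2) hD4
    (by rw [hc]; norm_num) (by rw [hc]; norm_num)
  have hN7 : 5 ^ 7 ∣ Nat.card ↥N := hS7.trans (Subgroup.card_dvd_of_le hSN)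
  -- `|N| = 5 ^ 7`
  have hdvd := H58.MonFiveB.card_dvd hy hfr
  rw [hcm] at hdvd
  have hm0 : 0 < m := Nat.pos_of_ne_zero fun h => by rw [h] at hm; omega
  have h1 : Nat.card ↥N * 604800 ∣ (5 ^ 7 * 2) * 604800 := by
    refine ((mul_dvd_mul_left _ (dvd_mul_right _ m)).trans hdvd).trans ?_
    norm_num
  have h2 : Nat.card ↥N ∣ 5 ^ 7 * 2 := Nat.dvd_of_mul_dvd_mul_right (by norm_num) h1
  have h3 : Nat.card ↥N ∣ 5 ^ 7 :=
    Nat.Coprime.dvd_of_dvd_mul_right (Nat.Coprime.symm (Nat.coprime_two_left.2 hN.oN)) h2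
  have hcN : Nat.card ↥N = 5 ^ 7 := Nat.dvd_antisymm h3 hN7
  -- the conclusion
  let W : ↥(centralizer ({(y : MG)} : Set MG)) := ⟨w, mem_centralizer_singleton_iff.2 hyw⟩
  have hW : orderOf W = 7 := by
    rw [← Subgroup.orderOf_coe]
    show orderOf (w : MG) = 7
    rw [Subgroup.orderOf_coe, hw]
  have hWz : W * zD y = zD y * W := Subtype.ext (mem_centralizer_singleton_iff.1 w.2)
  let g' : ↥(centralizer ({(y : MG)} : Set MG)) := ⟨g, mem_centralizer_singleton_iff.2 hgy⟩
  have h4 := cent_seven (a := 2) hns hN hK hD4 (by rw [hc]; norm_num) hcN hW hWz (g := g') (Subtype.ext hgw)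
  exact congrArg Subtype.val h4

/-- the general form: `y` of order 5 and `w` of order 7 -/
theorem card_inf_le {y w : centralizer ({zz} : Set MG)} (hy : orderOf y = 5) (hfr : fr (pi y) = 1) (hw : orderOf w = 7)
    (hyw : (w : MG) * y = y * w) :
    Nat.card ↥(centralizer ({(y : MG)} : Set MG) ⊓ centralizer ({(w : MG)} : Set MG) : Subgroup MG) ≤ 2 * (5 * 7) := by
  have := finite
  have hpy := MFive.orderOf_pi chart Nat.prime_five (by decide) hy
  have hpw := MFive.orderOf_pi chart (by norm_num : Nat.Prime 7) (by decide) hw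
  have hpyw : pi w * pi y = pi y * pi w := by
    rw [← map_mul, ← map_mul]
    congr 1
    exact Subtype.ext hyw
  have hz : ∀ c : ↥(centralizer ({(y : MG)} : Set MG) ⊓ centralizer ({(w : MG)} : Set MG) : Subgroup MG),
      (c : MG) ∈ centralizer ({zz} : Set MG) := fun c => mem_centralizer_singleton_iff.2
    (comm_z hy hfr hw hyw (mem_centralizer_singleton_iff.1 c.2.1) (mem_centralizer_singleton_iff.1 c.2.2))
  let φ : ↥(centralizer ({(y : MG)} : Set MG) ⊓ centralizer ({(w : MG)} : Set MG) : Subgroup MG) →* Co1 :=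
    { toFun := fun c => pi ⟨c, hz c⟩
      map_one' := by
        rw [← map_one pi]
        rfl
      map_mul' := fun a b => by
        rw [← map_mul pi]
        rfl }
  refine card_le_mul φ ?_ ?_
  · -- the kernel
    have h1 : φ.ker.map (Subgroup.subtype _) ≤ zpowers zz := by
      rintro _ ⟨c, hc, rfl⟩
      have h2 : pi ⟨c, hz c⟩ = 1 := MonoidHom.mem_ker.1 hc
      have h3 : (c : MG) ∈ KDone.K.ι.range := (chart.pi_eq_one _).1 h2
      have hcy := mem_centralizer_singleton_iff.1 c.2.1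
      have h4 := KPair.eq_zero_of_fr hfr (H6.ORE.fix_iff chart y h3 (Or.inl (by
        rw [← hcy, mul_inv_cancel_right])))
      rcases (chart.eta_zero _ h3).1 h4 with h5 | h5
      · show (c : MG) ∈ zpowers zz
        rw [h5]
        exact one_mem _
      · show (c : MG) ∈ zpowers zz
        rw [h5]
        exact mem_zpowers _
    have h2 := Subgroup.card_le_of_le h1
    rw [Subgroup.card_map_of_injective (Subgroup.subtype_injective _), Nat.card_zpowers] at h2
    refine h2.trans (Nat.le_of_dvd (by norm_num) (orderOf_dvd_of_pow_eq_one ?_))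
    rw [pow_two, zz_sq]
  · refine le_trans (Subgroup.card_le_of_le ?_) (card_co hpy hfr hpw hpyw)
    rintro _ ⟨c, rfl⟩
    refine ⟨mem_centralizer_singleton_iff.2 ?_, mem_centralizer_singleton_iff.2 ?_⟩
    · show pi _ * pi y = pi y * pi _
      rw [← map_mul, ← map_mul]
      congr 1
      exact Subtype.ext (mem_centralizer_singleton_iff.1 c.2.1)
    · show pi _ * pi w = pi w * pi _
      rw [← map_mul, ← map_mul]
      congr 1
      exact Subtype.ext (mem_centralizer_singleton_iff.1 c.2.2)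

/-- **`|C_M(x)| ≤ 70`.** -/
theorem card_le {x : centralizer ({zz} : Set MG)} (hx : orderOf x = 35) (hfr : fr (pi (x ^ 7)) = 1) :
    Nat.card ↥(centralizer ({(x : MG)} : Set MG)) ≤ 70 := by
  have := finite
  have hy : orderOf (x ^ 7) = 5 := by rw [orderOf_pow' x (by norm_num), hx]; norm_num
  have hw : orderOf (x ^ 5) = 7 := by rw [orderOf_pow' x (by norm_num), hx]; norm_num
  have h1 := card_inf_le (y := x ^ 7) (w := x ^ 5) hy hfr hw (by
    show (x : MG) ^ 5 * (x : MG) ^ 7 = (x : MG) ^ 7 * (x : MG) ^ 5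
    rw [← pow_add, ← pow_add])
  refine le_trans (Subgroup.card_le_of_le ?_) h1
  intro g hg
  have hg' : Commute g (x : MG) := mem_centralizer_singleton_iff.1 hg
  exact ⟨mem_centralizer_singleton_iff.2 (hg'.pow_right 7).eq, mem_centralizer_singleton_iff.2 (hg'.pow_right 5).eq⟩

end monster

end Cfsg.Agent.H471.TC
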